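import Cfsg.Agent.PGraphCIT.Almost
import Mathlib

/-!
# Groups with the prime graph of `PSL₂(2^m)`

The classification of the simple groups in which involution centralisers are `2`-groups is a
hypothesis here; it is supplied where the theorem is applied.
-/

set_option autoImplicit false

namespace Cfsg.Agent.PGraphCIT

universe u

theorem psl_order_cases {F : Type*} [Field F] [Fintype F] {m : ℕ} (hm : 0 < m)
    (hF : Fintype.card F = 2 ^ m) (k : ℕ) :
    (∃ x : Matrix.ProjectiveSpecialLinearGroup (Fin 2) F, orderOf x = k) ↔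
      k ∣ 2 ∨ k ∣ 2 ^ m - 1 ∨ k ∣ 2 ^ m + 1 := by
  have : Fact (Nat.Prime 2) := ⟨Nat.prime_two⟩
  have : CharP F 2 := by
    obtain ⟨p, hp⟩ := CharP.exists F
    obtain ⟨v, hp', hv⟩ := FiniteField.card F p
    have h2 : p ∣ 2 ^ m := hF ▸ hv ▸ dvd_pow_self p v.ne_zero
    rwa [(Nat.prime_dvd_prime_iff_eq hp' Nat.prime_two).1 (hp'.dvd_of_dvd_pow h2)] at hp
  have h1 : k ∈ Set.range (orderOf : Matrix.ProjectiveSpecialLinearGroup (Fin 2) F → ℕ) ↔
      k ∣ 2 ∨ k ∣ 2 ^ m - 1 ∨ k ∣ 2 ^ m + 1 := by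
    rw [SL2Tor.range_orderOf_psl 2, hF, Nat.Coprime.gcd_eq_one
      ((Nat.prime_two.coprime_iff_not_dvd).2 (not_two_dvd_pow_sub (k := m) hm)), Nat.div_one,
      Nat.div_one]
    rfl
  exact h1

theorem recognize {G : Type u} [Group G] [Finite G] {F : Type*} [Field F] [Fintype F] {m : ℕ}
    (hm : 4 ≤ m) (hF : Fintype.card F = 2 ^ m)
    (hclass : ∀ (N : Type u) [Group N] [Finite N] [IsSimpleGroup N],
      (∃ a b : N, a * b ≠ b * a) → IsCIT N → SimpleList N)
    (h : ((∀ r : ℕ, r.Prime →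
        (r ∣ Nat.card (Matrix.ProjectiveSpecialLinearGroup (Fin 2) F) ↔ r ∣ Nat.card G)) ∧
      (∀ r s : ℕ, r.Prime → s.Prime → r ≠ s →
        ((∃ x : (Matrix.ProjectiveSpecialLinearGroup (Fin 2) F), orderOf x = r * s) ↔
          (∃ y : G, orderOf y = r * s))))) :
    Nonempty (G ⧸ Cfsg.pCore 2 G ≃* Matrix.ProjectiveSpecialLinearGroup (Fin 2) F) := by
  have : Fact (Nat.Prime 2) := ⟨Nat.prime_two⟩
  obtain ⟨hdiv, hadj⟩ := h
  set q := 2 ^ m with hq
  have hq16 : 16 ≤ q := by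
    calc 16 = 2 ^ 4 := rfl
      _ ≤ q := Nat.pow_le_pow_right two_pos hm
  have hqev : 2 ∣ q := dvd_pow_self 2 (by omega)
  have hcard : Nat.card (Matrix.ProjectiveSpecialLinearGroup (Fin 2) F) =
      2 ^ m * (2 ^ (2 * m) - 1) := card_psl_two_even F (by omega) hF
  have hG : ∀ r : ℕ, r.Prime → r ≠ 2 → (r ∣ Nat.card G ↔ r ∣ 2 ^ (2 * m) - 1) := by
    intro r hr hr2
    rw [← hdiv r hr, hcard, hr.dvd_mul]
    exact or_iff_right fun h1 =>
      hr2 ((Nat.prime_dvd_prime_iff_eq hr Nat.prime_two).1 (hr.dvd_of_dvd_pow h1))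
  have hord := psl_order_cases (F := F) (show 0 < m by omega) hF
  have hcit : IsCIT G := by
    refine IsCIT.of_odd_prime_commute fun r hr hr2 hx => ?_
    rcases (hord _).1 ((hadj 2 r Nat.prime_two hr (Ne.symm hr2)).2 hx) with h1 | h1 | h1
    · have h3 := Nat.le_of_dvd two_pos h1
      have := hr.two_le
      omega
    · have := (dvd_mul_right 2 r).trans h1
      omega
    · have := (dvd_mul_right 2 r).trans h1
      omega
  have hprod : (q - 1) * (q + 1) = 2 ^ (2 * m) - 1 := by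
    rw [mul_comm, ← Nat.sq_sub_sq, one_pow, hq, ← pow_mul, mul_comm m]
  obtain ⟨r, hr, hrq⟩ := Nat.exists_prime_and_dvd (show q - 1 ≠ 1 by omega)
  obtain ⟨s, hs, hsq⟩ := Nat.exists_prime_and_dvd (show q + 1 ≠ 1 by omega)
  have hr2 : r ≠ 2 := by rintro rfl; omega
  have hs2 : s ≠ 2 := by rintro rfl; omega
  have hrG : r ∣ Nat.card G := (hG r hr hr2).2 (hrq.trans (hprod ▸ dvd_mul_right _ _))
  have hsG : s ∣ Nat.card G := (hG s hs hs2).2 (hsq.trans (hprod ▸ dvd_mul_left _ _))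
  have hrs : r ≠ s := by
    rintro rfl
    have := Nat.dvd_sub hsq hrq
    rw [show q + 1 - (q - 1) = 2 by omega] at this
    exact hr2 ((Nat.prime_dvd_prime_iff_eq hr Nat.prime_two).1 this)
  have hns : ¬ Group.IsSolvable G := by
    intro hsol
    have n2 : ∀ t : ℕ, t.Prime → t ≠ 2 → ¬ ∃ x : G, orderOf x = 2 * t := by
      rintro t ht ht2 ⟨x, hx⟩
      have h2 : orderOf (x ^ t) = 2 := by
        rw [orderOf_pow, hx, Nat.gcd_eq_right (dvd_mul_left t 2), Nat.mul_div_cancel _ ht.pos]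
      have h3 : orderOf (x ^ 2) = t := by
        rw [orderOf_pow, hx, Nat.gcd_eq_right (dvd_mul_right 2 t),
          Nat.mul_div_cancel_left _ two_pos]
      have := hcit.eq_one h2 ((Commute.refl x).pow_pow t 2) (h3 ▸ ht.odd_of_ne_two ht2)
      rw [this, orderOf_one] at h3
      exact ht.ne_one h3.symm
    have hno : ¬ ∃ x : G, orderOf x = r * s := by
      intro hx
      rcases (hord _).1 ((hadj r s hr hs hrs).2 hx) with h1 | h1 | h1
      · exact hr2 ((Nat.prime_dvd_prime_iff_eq hr Nat.prime_two).1 ((dvd_mul_right r s).trans h1))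
      · have := Nat.dvd_sub hsq ((dvd_mul_left s r).trans h1)
        rw [show q + 1 - (q - 1) = 2 by omega] at this
        exact hs2 ((Nat.prime_dvd_prime_iff_eq hs Nat.prime_two).1 this)
      · have := Nat.dvd_sub ((dvd_mul_right r s).trans h1) hrq
        rw [show q + 1 - (q - 1) = 2 by omega] at this
        exact hr2 ((Nat.prime_dvd_prime_iff_eq hr Nat.prime_two).1 this)
    have : Group.IsSolvable (⊤ : Subgroup G) := inferInstance
    have h2G : 2 ∣ Nat.card G := (hdiv 2 Nat.prime_two).1 (by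
      rw [hcard]; exact dvd_mul_of_dvd_left hqev _)
    refine Recog71.at_most_one_in_solvable (⊤ : Subgroup G) this hr hs Nat.prime_two hrs hr2 hs2
      hno ?_ ?_ ?_ ?_ h2G
    · rw [mul_comm]; exact n2 r hr hr2
    · rw [mul_comm]; exact n2 s hs hs2
    · rwa [Subgroup.card_top]
    · rwa [Subgroup.card_top]
  set K := Cfsg.pCore 2 G with hK
  have hKp : IsPGroup 2 K := Thompson.isPGroup_pCore
  have hX := hcit.quotient K hKp
  have hnsX : ¬ Group.IsSolvable (G ⧸ K) := by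
    intro hsol
    have := hKp.isNilpotent
    exact hns (Group.isSolvable_of_ker_le_range K.subtype (QuotientGroup.mk' K)
      (by rw [Subgroup.range_subtype, QuotientGroup.ker_mk']))
  obtain ⟨N, hNn, hNs, hNa, -⟩ := hX.exists_simple hnsX pCore_quotient_eq_bot
  have hP : ∀ t : ℕ, t.Prime → t ≠ 2 → (t ∣ Nat.card (G ⧸ K) ↔ t ∣ 2 ^ (2 * m) - 1) := by
    intro t ht ht2
    rw [← hG t ht ht2, Subgroup.card_eq_card_quotient_mul_card_subgroup K, ht.dvd_mul]
    refine (or_iff_left fun h1 => ?_).symm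
    obtain ⟨v, hv⟩ := hKp.exists_card_eq
    exact ht2 ((Nat.prime_dvd_prime_iff_eq ht Nat.prime_two).1 (ht.dvd_of_dvd_pow (hv ▸ h1)))
  have h15 : m = 6 → ∀ x : G ⧸ K, orderOf x ≠ 15 := by
    intro hm6 x hx
    obtain ⟨y, hy⟩ :=
      Recog71.exists_orderOf_of_hom_surjective (QuotientGroup.mk'_surjective K) x
    have h1 := (hord _).1 ((hadj 3 5 Nat.prime_three (by norm_num) (by norm_num)).2
      ⟨y, by rw [hy, hx]⟩)
    rw [hm6] at h1
    norm_num at h1
  have hab : ∃ a b : N, a * b ≠ b * a := by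
    by_contra hc
    exact hNa ⟨⟨fun a b => by_contra fun e => hc ⟨a, b, e⟩⟩⟩
  have hev : 2 ∣ Nat.card N := by
    by_contra hc
    exact hNa ⟨⟨IsSimpleGroup.comm_iff_isSolvable.2
      (PF14.feitThompson N (Nat.odd_iff.2 (Nat.two_dvd_ne_zero.1 hc)))⟩⟩
  exact almost hX N hNa hev (hclass N hab (hX.subgroup N)) hm hP h15 hF

end Cfsg.Agent.PGraphCIT
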