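import Cfsg.Agent.Lib.NumberTheory.Zsigmondy
import Mathlib

/-!
# Arithmetic for the prime graph of `PSL₂(2^m)`
-/

set_option autoImplicit false

namespace Cfsg.Agent.PGraphCIT

theorem dvd_pow_sub_gcd {r a b : ℕ} (ha : r ∣ 2 ^ a - 1) (hb : r ∣ 2 ^ b - 1) :
    r ∣ 2 ^ Nat.gcd a b - 1 := by
  rw [← Nat.pow_sub_one_gcd_pow_sub_one]
  exact Nat.dvd_gcd ha hb

theorem dvd_pow_sub_of_dvd {r a b : ℕ} (ha : r ∣ 2 ^ a - 1) (hab : a ∣ b) : r ∣ 2 ^ b - 1 := by
  obtain ⟨c, rfl⟩ := hab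
  exact ha.trans (by rw [pow_mul]; simpa using Nat.sub_dvd_pow_sub_pow (2 ^ a) 1 c)

theorem exists_prim {n : ℕ} (hn : 1 < n) (h6 : n ≠ 6) :
    ∃ r : ℕ, r.Prime ∧ r ≠ 2 ∧ r ∣ 2 ^ n - 1 ∧ ∀ k, r ∣ 2 ^ k - 1 → n ∣ k := by
  obtain ⟨r, hr⟩ := NumberTheory.exists_isPrimitivePrimeDivisor (a := 2) (n := n) one_lt_two hn
    (by omega) (by
      rintro ⟨-, k, hk⟩
      rcases k with _ | k
      · omega
      · rw [pow_succ] at hk; omega)
  refine ⟨r, hr.1, ?_, hr.2.1, fun k hk => ?_⟩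
  · rintro rfl
    have h1 := hr.2.1
    have h2 : 2 ∣ 2 ^ n := dvd_pow_self 2 (by omega)
    have h3 : 1 ≤ 2 ^ n := Nat.one_le_pow _ _ two_pos
    omega
  · have hg := dvd_pow_sub_gcd hr.2.1 hk
    rcases Nat.eq_zero_or_pos (Nat.gcd n k) with h0 | h0
    · have := Nat.eq_zero_of_gcd_eq_zero_left h0
      omega
    · by_contra hnk
      exact hr.2.2 _ h0 (lt_of_le_of_ne (Nat.gcd_le_left _ (by omega))
        fun e => hnk (e ▸ Nat.gcd_dvd_right n k)) hg

/-- If all odd primes of `X` divide small Mersenne numbers then `X` is not like `PSL₂(2^m)`. -/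
theorem not_small {m : ℕ} (hm : 4 ≤ m) {X : ℕ}
    (hP : ∀ r : ℕ, r.Prime → r ≠ 2 → (r ∣ X ↔ r ∣ 2 ^ (2 * m) - 1))
    (h : ∀ r : ℕ, r.Prime → r ≠ 2 → r ∣ X → ∃ k, 0 < k ∧ k < 2 * m ∧ r ∣ 2 ^ k - 1) : False := by
  obtain ⟨r, hr, hr2, hrd, hord⟩ := exists_prim (n := 2 * m) (by omega) (by omega)
  obtain ⟨k, hk0, hk, hrk⟩ := h r hr hr2 ((hP r hr hr2).2 hrd)
  have := Nat.le_of_dvd hk0 (hord k hrk)
  omega

theorem two_dvd_two_pow_add {k : ℕ} (hk : 2 ≤ k) : ¬ 2 ∣ 2 ^ (k - 1) + 1 := by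
  have h1 : 2 ∣ 2 ^ (k - 1) := dvd_pow_self 2 (by omega)
  omega

theorem not_two_dvd_pow_sub {k : ℕ} (hk : 1 ≤ k) : ¬ 2 ∣ 2 ^ k - 1 := by
  have h1 : 2 ∣ 2 ^ k := dvd_pow_self 2 (by omega)
  have h2 : 1 ≤ 2 ^ k := Nat.one_le_pow _ _ two_pos
  omega

theorem le_of_pow_dvd_pow_mul {a b c : ℕ} (hc : ¬ 2 ∣ c) (h : 2 ^ a ∣ 2 ^ b * c) : a ≤ b := by
  have h1 : Nat.Coprime (2 ^ a) c := ((Nat.prime_two.coprime_iff_not_dvd).2 hc).pow_left a
  exact (Nat.pow_dvd_pow_iff_le_right one_lt_two).1 (h1.dvd_of_dvd_mul_right h)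

theorem add_one_dvd (k : ℕ) : 2 ^ k + 1 ∣ 2 ^ (2 * k) - 1 :=
  ⟨2 ^ k - 1, by rw [two_mul, pow_add, ← sq, ← Nat.sq_sub_sq, one_pow]⟩

/-- `X` has the odd primes of `4^m - 1`; `c = |N|`, `N` a simple subgroup whose Sylow `2`-subgroup
(of order `2^a`) is not elementary abelian, of order as in the list. -/
theorem not_listed {m : ℕ} (hm : 4 ≤ m) {X c a : ℕ} (hcX : c ∣ X) (ha : 2 ^ a ∣ c)
    (hP : ∀ r : ℕ, r.Prime → r ≠ 2 → (r ∣ X ↔ r ∣ 2 ^ (2 * m) - 1))
    (hb : ∀ r : ℕ, r.Prime → r ≠ 2 → r ∣ X → r ∣ c ∨ ∃ i, 0 < i ∧ i < a ∧ r ∣ 2 ^ i - 1)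
    (hc : (∃ p k : ℕ, p.Prime ∧ (p = 2 ^ k + 1 ∨ p + 1 = 2 ^ k) ∧ c * 2 = p * (p ^ 2 - 1)) ∨
      c = 360 ∨ c = 20160 ∨
      ∃ j : ℕ, 1 ≤ j ∧
        c = (2 ^ (2 * j + 1)) ^ 2 * ((2 ^ (2 * j + 1)) ^ 2 + 1) * (2 ^ (2 * j + 1) - 1)) :
    c = 29120 ∧ m = 6 := by
  -- small orders
  have small : a < 2 * m → (∀ r : ℕ, r.Prime → r ≠ 2 → r ∣ c →
      r = 3 ∨ r = 5 ∨ r = 7) → c = 29120 ∧ m = 6 := by
    intro hA hr3
    exfalso
    refine not_small hm hP fun r hr hr2 hrX => ?_
    rcases hb r hr hr2 hrX with h | ⟨i, hi0, hi, hri⟩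
    · rcases hr3 r hr hr2 h with rfl | rfl | rfl
      · exact ⟨2, two_pos, by omega, by norm_num⟩
      · exact ⟨4, by omega, by omega, by norm_num⟩
      · exact ⟨3, by omega, by omega, by norm_num⟩
    · exact ⟨i, hi0, by omega, hri⟩
  have dvd_small : ∀ r : ℕ, r.Prime → r ≠ 2 → ∀ e : ℕ, r ∣ 2 ^ e * (315 : ℕ) → r = 3 ∨ r = 5 ∨ r = 7 := by
    intro r hr hr2 e h
    rcases hr.dvd_mul.1 h with h | h
    · exact absurd ((Nat.prime_dvd_prime_iff_eq hr Nat.prime_two).1 (hr.dvd_of_dvd_pow h)) hr2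
    · rw [show (315 : ℕ) = 3 ^ 2 * (5 * 7) by norm_num] at h
      rcases hr.dvd_mul.1 h with h | h
      · exact Or.inl ((Nat.prime_dvd_prime_iff_eq hr Nat.prime_three).1 (hr.dvd_of_dvd_pow h))
      · rcases hr.dvd_mul.1 h with h | h
        · exact Or.inr (Or.inl ((Nat.prime_dvd_prime_iff_eq hr (by norm_num)).1 h))
        · exact Or.inr (Or.inr ((Nat.prime_dvd_prime_iff_eq hr (by norm_num)).1 h))
  have amax : ∀ e : ℕ, e ≤ 7 → c ∣ 2 ^ e * 315 → a ≤ e := fun e _ h =>
    le_of_pow_dvd_pow_mul (by norm_num) (ha.trans h)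
  rcases hc with ⟨p, k, hp, hpk, hcp⟩ | rfl | rfl | ⟨j, hj, hcj⟩
  rotate_left
  · exact small (by have := amax 3 (by omega) (by norm_num); omega)
      fun r hr hr2 h => dvd_small r hr hr2 3 (h.trans (by norm_num))
  · exact small (by have := amax 6 (by omega) (by norm_num); omega)
      fun r hr hr2 h => dvd_small r hr hr2 6 (h.trans (by norm_num))
  · -- Suzuki orders
    set f := 2 * j + 1 with hf
    set q := 2 ^ f with hq
    have hq1 : 1 ≤ q := Nat.one_le_pow _ _ two_pos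
    have hsq : q ^ 2 = 2 ^ (2 * f) := by rw [hq, ← pow_mul, mul_comm]
    have hfac : ∀ r : ℕ, r.Prime → r ≠ 2 → r ∣ c → r ∣ 2 ^ (2 * f) + 1 ∨ r ∣ 2 ^ f - 1 := by
      intro r hr hr2 h
      rw [hcj] at h
      rcases hr.dvd_mul.1 h with h | h
      · rcases hr.dvd_mul.1 h with h | h
        · exact absurd ((Nat.prime_dvd_prime_iff_eq hr Nat.prime_two).1
            (hr.dvd_of_dvd_pow (hr.dvd_of_dvd_pow h))) hr2
        · exact Or.inl (hsq ▸ h)
      · exact Or.inr h
    have haf : a ≤ 2 * f := by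
      refine le_of_pow_dvd_pow_mul (c := (q ^ 2 + 1) * (q - 1)) ?_ ?_
      · rw [Nat.prime_two.dvd_mul]
        rintro (h | h)
        · have : 2 ∣ q ^ 2 := dvd_pow (dvd_pow_self 2 (by omega)) two_ne_zero
          omega
        · exact not_two_dvd_pow_sub (k := f) (by omega) h
      · rw [← mul_assoc, ← hsq, ← hcj]
        exact ha
    -- `4f = 2m`
    obtain ⟨r1, hr1, hr12, hr1d, hr1o⟩ := exists_prim (n := 4 * f) (by omega) (by omega)
    have hr1c : r1 ∣ c := by
      have h1 : r1 ∣ (2 ^ (2 * f) + 1) * (2 ^ (2 * f) - 1) := by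
        rw [← Nat.sq_sub_sq, one_pow, ← pow_mul, show 2 * f * 2 = 4 * f by ring]
        exact hr1d
      rcases hr1.dvd_mul.1 h1 with h | h
      · rw [hcj, hsq]
        exact dvd_mul_of_dvd_left (dvd_mul_of_dvd_right h _) _
      · have := Nat.le_of_dvd (by omega) (hr1o _ h)
        omega
    have h4f : 4 * f ∣ 2 * m := hr1o _ ((hP r1 hr1 hr12).1 (hr1c.trans hcX))
    obtain ⟨r0, hr0, hr02, hr0d, hr0o⟩ := exists_prim (n := 2 * m) (by omega) (by omega)
    have h2m : 2 * m ≤ 4 * f := by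
      rcases hb r0 hr0 hr02 ((hP r0 hr0 hr02).2 hr0d) with h | ⟨i, hi0, hi, h⟩
      · rcases hfac r0 hr0 hr02 h with h | h
        · refine Nat.le_of_dvd (by omega) (hr0o _ ?_)
          rw [show 4 * f = 2 * (2 * f) by ring]
          exact h.trans (add_one_dvd _)
        · exact (Nat.le_of_dvd (by omega) (hr0o _ h)).trans (by omega)
      · exact (Nat.le_of_dvd hi0 (hr0o _ h)).trans (by omega)
    have hmf : m = 2 * f := by
      have := Nat.le_of_dvd (by omega) h4f
      omega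
    by_cases hf3 : f = 3
    · refine ⟨?_, by omega⟩
      rw [hcj, hq, hf3]
      norm_num
    exfalso
    obtain ⟨s, hs, hs2, hsd, hso⟩ := exists_prim (n := 2 * f) (by omega) (by omega)
    rcases hb s hs hs2 ((hP s hs hs2).2
        (dvd_pow_sub_of_dvd hsd (Dvd.intro 2 (by omega)))) with h | ⟨i, hi0, hi, h⟩
    · rcases hfac s hs hs2 h with h | h
      · have h1 : 1 ≤ 2 ^ (2 * f) := Nat.one_le_pow _ _ two_pos
        have h2 := Nat.dvd_sub h hsd
        rw [show 2 ^ (2 * f) + 1 - (2 ^ (2 * f) - 1) = 2 by omega] at h2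
        exact hs2 ((Nat.prime_dvd_prime_iff_eq hs Nat.prime_two).1 h2)
      · have := Nat.le_of_dvd (by omega) (hso _ h)
        omega
    · have := Nat.le_of_dvd hi0 (hso _ h)
      omega
  · -- `PSL₂(p)`
    rcases Nat.lt_or_ge k 3 with hk | hk
    · have hp35 : p = 2 ∨ p = 3 ∨ p = 5 := by
        have hp2 := hp.two_le
        interval_cases k <;> omega
      rcases hp35 with rfl | rfl | rfl
      · exact small (by have := amax 1 (by omega) (by rw [show c = 3 by omega]; norm_num); omega)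
          fun r hr hr2 h => dvd_small r hr hr2 1 (h.trans (by rw [show c = 3 by omega]; norm_num))
      · exact small (by have := amax 2 (by omega) (by rw [show c = 12 by omega]; norm_num); omega)
          fun r hr hr2 h => dvd_small r hr hr2 2 (h.trans (by rw [show c = 12 by omega]; norm_num))
      · exact small (by have := amax 2 (by omega) (by rw [show c = 60 by omega]; norm_num); omega)
          fun r hr hr2 h => dvd_small r hr hr2 2 (h.trans (by rw [show c = 60 by omega]; norm_num))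
    exfalso
    set u := 2 ^ k with hu
    set w := 2 ^ (k - 1) with hw
    have huw : u = 2 * w := by
      rw [hu, hw, ← pow_succ', show k - 1 + 1 = k by omega]
    have hw4 : 4 ≤ w := by
      calc 4 = 2 ^ 2 := rfl
        _ ≤ w := Nat.pow_le_pow_right two_pos (by omega)
    have hpX : p ∣ X → p ∣ 2 ^ (2 * m) - 1 := (hP p hp (by rintro rfl; omega)).1
    obtain ⟨r0, hr0, hr02, hr0d, hr0o⟩ := exists_prim (n := 2 * m) (by omega) (by omega)
    have hr0X := (hP r0 hr0 hr02).2 hr0d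
    rcases hpk with hpk | hpk
    · -- `p = 2^k + 1`
      have hc' : c = 2 ^ k * (p * (w + 1)) := by
        have h1 : p ^ 2 - 1 = (p + 1) * (p - 1) := by rw [← Nat.sq_sub_sq, one_pow]
        have h2 : p + 1 = 2 * (w + 1) := by omega
        have h3 : p - 1 = u := by omega
        rw [h1, h2, h3] at hcp
        refine Nat.eq_of_mul_eq_mul_right two_pos (hcp.trans ?_)
        ring
      have hak : a ≤ k := by
        refine le_of_pow_dvd_pow_mul ?_ (hc' ▸ ha)
        rw [Nat.prime_two.dvd_mul]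
        rintro (h | h)
        · have := (Nat.prime_dvd_prime_iff_eq Nat.prime_two hp).1 h
          omega
        · exact two_dvd_two_pow_add (by omega) h
      have hfac : ∀ r : ℕ, r.Prime → r ≠ 2 → r ∣ c → r = p ∨ r ∣ 2 ^ (2 * (k - 1)) - 1 := by
        intro r hr hr2 h
        rw [hc'] at h
        rcases hr.dvd_mul.1 h with h | h
        · exact absurd ((Nat.prime_dvd_prime_iff_eq hr Nat.prime_two).1 (hr.dvd_of_dvd_pow h)) hr2
        · rcases hr.dvd_mul.1 h with h | h
          · exact Or.inl ((Nat.prime_dvd_prime_iff_eq hr hp).1 h)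
          · exact Or.inr (h.trans (add_one_dvd _))
      have hpord : ∀ n, p ∣ 2 ^ n - 1 → 2 * k ∣ n := by
        intro n hn
        have h1 := dvd_pow_sub_gcd hn (hpk ▸ add_one_dvd k)
        set g := Nat.gcd n (2 * k) with hg
        have hgk : k < g := by
          by_contra hle
          rw [not_lt] at hle
          have h3 : 2 ^ g ≤ u := Nat.pow_le_pow_right two_pos hle
          rcases Nat.eq_zero_or_pos g with h4 | h4
          · have := Nat.eq_zero_of_gcd_eq_zero_right (hg ▸ h4)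
            omega
          · have h5 : 2 ≤ 2 ^ g := le_trans (by norm_num) (Nat.pow_le_pow_right two_pos h4)
            have := Nat.le_of_dvd (by omega) h1
            omega
        obtain ⟨e, he⟩ : g ∣ 2 * k := Nat.gcd_dvd_right _ _
        have : e = 1 := by
          rcases e with _ | _ | e
          · omega
          · rfl
          · exfalso; nlinarith
        rw [this, mul_one] at he
        rw [he, hg]
        exact Nat.gcd_dvd_left _ _
      have hkm : k ∣ m := Nat.dvd_of_mul_dvd_mul_left two_pos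
        (hpord _ (hpX ((Dvd.intro_left _ (by rw [hc']; ring : (2 ^ k * (w + 1)) * p = c)).trans hcX)))
      have hkle : k ≤ m := Nat.le_of_dvd (by omega) hkm
      have hmk : m = k := by
        rcases hb r0 hr0 hr02 hr0X with h | ⟨i, hi0, hi, h⟩
        · rcases hfac r0 hr0 hr02 h with rfl | h
          · have := Nat.le_of_dvd (by omega) (hr0o _ (hpk ▸ add_one_dvd k))
            omega
          · have := Nat.le_of_dvd (by omega) (hr0o _ h)
            omega
        · have := Nat.le_of_dvd hi0 (hr0o _ h)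
          omega
      subst hmk
      have hk6 : m ≠ 6 := by
        rintro rfl
        rw [show p = 65 by omega] at hp
        norm_num at hp
      obtain ⟨s, hs, hs2, hsd, hso⟩ := exists_prim (n := m) (by omega) hk6
      rcases hb s hs hs2 ((hP s hs hs2).2 (dvd_pow_sub_of_dvd hsd (Dvd.intro_left 2 rfl))) with
        h | ⟨i, hi0, hi, h⟩
      · rcases hfac s hs hs2 h with rfl | h
        · have := Nat.le_of_dvd (by omega) (hpord _ hsd)
          omega
        · have h1 := hso _ h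
          have h2 : m ∣ 2 * (m - 1) + 2 := ⟨2, by omega⟩
          have := Nat.le_of_dvd two_pos ((Nat.dvd_add_right h1).1 h2)
          omega
      · have := Nat.le_of_dvd hi0 (hso _ h)
        omega
    · -- `p = 2^k - 1`
      have hc' : c = 2 ^ k * (p * (w - 1)) := by
        have h1 : p ^ 2 - 1 = (p + 1) * (p - 1) := by rw [← Nat.sq_sub_sq, one_pow]
        have h2 : p + 1 = u := hpk
        have h3 : p - 1 = 2 * (w - 1) := by omega
        rw [h1, h2, h3] at hcp
        refine Nat.eq_of_mul_eq_mul_right two_pos (hcp.trans ?_)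
        ring
      have hak : a ≤ k := by
        refine le_of_pow_dvd_pow_mul ?_ (hc' ▸ ha)
        rw [Nat.prime_two.dvd_mul]
        rintro (h | h)
        · have := (Nat.prime_dvd_prime_iff_eq Nat.prime_two hp).1 h
          omega
        · exact not_two_dvd_pow_sub (k := k - 1) (by omega) h
      have hfac : ∀ r : ℕ, r.Prime → r ≠ 2 → r ∣ c → r = p ∨ r ∣ 2 ^ (k - 1) - 1 := by
        intro r hr hr2 h
        rw [hc'] at h
        rcases hr.dvd_mul.1 h with h | h
        · exact absurd ((Nat.prime_dvd_prime_iff_eq hr Nat.prime_two).1 (hr.dvd_of_dvd_pow h)) hr2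
        · rcases hr.dvd_mul.1 h with h | h
          · exact Or.inl ((Nat.prime_dvd_prime_iff_eq hr hp).1 h)
          · exact Or.inr h
      have hpk' : p ∣ 2 ^ k - 1 := dvd_of_eq (by omega)
      have hkm : k ∣ 2 * m := by
        have h1 := dvd_pow_sub_gcd hpk' (hpX ((Dvd.intro_left _
          (by rw [hc']; ring : (2 ^ k * (w - 1)) * p = c)).trans hcX))
        set g := Nat.gcd k (2 * m) with hg
        by_contra hne
        have hgk : g < k := lt_of_le_of_ne (Nat.gcd_le_left _ (by omega))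
          fun e => hne (e ▸ Nat.gcd_dvd_right k (2 * m))
        have h3 : 2 ^ g ≤ w := Nat.pow_le_pow_right two_pos (by omega)
        rcases Nat.eq_zero_or_pos g with h4 | h4
        · have := Nat.eq_zero_of_gcd_eq_zero_left (hg ▸ h4)
          omega
        · have h5 : 2 ≤ 2 ^ g := le_trans (by norm_num) (Nat.pow_le_pow_right two_pos h4)
          have := Nat.le_of_dvd (by omega) h1
          omega
      have h2mk : 2 * m ≤ k := by
        rcases hb r0 hr0 hr02 hr0X with h | ⟨i, hi0, hi, h⟩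
        · rcases hfac r0 hr0 hr02 h with rfl | h
          · exact Nat.le_of_dvd (by omega) (hr0o _ hpk')
          · exact (Nat.le_of_dvd (by omega) (hr0o _ h)).trans (Nat.sub_le _ _)
        · exact (Nat.le_of_dvd hi0 (hr0o _ h)).trans (by omega)
      have hk2 : k = 2 * m := le_antisymm (Nat.le_of_dvd (by omega) hkm) h2mk
      have h3 : 3 ∣ 2 ^ k - 1 := dvd_pow_sub_of_dvd (a := 2) (by norm_num) (Dvd.intro m hk2.symm)
      rw [show 2 ^ k - 1 = p by omega] at h3
      have := (Nat.prime_dvd_prime_iff_eq Nat.prime_three hp).1 h3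
      omega

end Cfsg.Agent.PGraphCIT
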