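import Cfsg.Agent.PGraphCIT.Basic
import Cfsg.Agent.PGraphCIT.Arith
import Cfsg.Agent.Recog71.ThreePrimes
import Cfsg.Agent.TwoFusionB.FieldModel
import Cfsg.Agent.SL2Tor.PSLOrders
import Cfsg.Agent.Lib.LinearGroup.SmallPSL
import Cfsg.Agent.Lib.LinearGroup.Card
import Cfsg.Agent.Lib.SmallGroups.Basic
import Mathlib

/-!
# Almost simple groups with `2`-group involution centralisers and the primes of `PSL₂(2^m)`
-/

set_option autoImplicit false

namespace Cfsg.Agent.PGraphCIT

open Subgroup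
open TwoFusionB (nT)
open TwoFusionB.ECHyp (pt stab2)

variable {X : Type*} [Group X]

/-- The list of the simple groups of this kind. -/
def SimpleList (N : Type*) [Group N] : Prop :=
  (∃ (F : Type) (_ : Field F) (_ : Fintype F),
      (Fintype.card F = 9 ∨ (∃ n : ℕ, Fintype.card F = 2 ^ n) ∨
        ((Fintype.card F).Prime ∧ ∃ k : ℕ, Fintype.card F = 2 ^ k + 1 ∨ Fintype.card F + 1 = 2 ^ k)) ∧
      Nonempty (N ≃* Matrix.ProjectiveSpecialLinearGroup (Fin 2) F)) ∨
  (∃ (F : Type) (_ : Field F) (_ : Fintype F), Fintype.card F = 4 ∧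
      Nonempty (N ≃* Matrix.ProjectiveSpecialLinearGroup (Fin 3) F)) ∨
  Cfsg.IsSuzuki N

theorem mem_normalizer_of_conj [Finite X] {H : Subgroup X} {g : X}
    (h : ∀ x ∈ H, g * x * g⁻¹ ∈ H) : g ∈ normalizer (H : Set X) := by
  let f : H → H := fun x => ⟨g * x * g⁻¹, h x x.2⟩
  have hf : Function.Surjective f := Finite.injective_iff_surjective.1 fun x y e =>
    Subtype.ext (mul_left_cancel (mul_right_cancel (congrArg Subtype.val e)))
  refine mem_normalizer_iff.2 fun x => ⟨h x, fun hx => ?_⟩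
  obtain ⟨y, hy⟩ := hf ⟨g * x * g⁻¹, hx⟩
  rw [← mul_left_cancel (mul_right_cancel (congrArg Subtype.val hy : g * y * g⁻¹ = g * x * g⁻¹))]
  exact y.2

theorem IsCIT.subgroup (h : IsCIT X) (N : Subgroup X) : IsCIT N := fun t ht c => by
  obtain ⟨k, hk⟩ := h t ((orderOf_coe t).trans ht) ⟨((c : N) : X), mem_centralizer_singleton_iff.2
    (congrArg Subtype.val (mem_centralizer_singleton_iff.1 c.2))⟩
  exact ⟨k, Subtype.ext (Subtype.ext (by simpa using congrArg Subtype.val hk))⟩

/-- A prime outside a normal subgroup divides the order of the normaliser of its Sylow subgroup. -/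
theorem exists_normalizing [Finite X] (N : Subgroup X) [N.Normal] {p : ℕ} [Fact p.Prime]
    (T : Sylow p N) {r : ℕ} (hr : r.Prime) (hrX : r ∣ Nat.card X) (hrN : ¬ r ∣ Nat.card N) :
    ∃ x ∈ normalizer (((T : Subgroup N).map N.subtype : Subgroup X) : Set X), orderOf x = r := by
  have := Fact.mk hr
  set B := normalizer (((T : Subgroup N).map N.subtype : Subgroup X) : Set X) with hB
  have h1 := Recog71.card_mul_eq_of_sup_eq_top B N (Sylow.normalizer_sup_eq_top T)
  have h2 : r ∣ Nat.card B := by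
    rw [← h1]
    refine dvd_mul_of_dvd_right ?_ _
    rw [← N.card_mul_index] at hrX
    exact (hr.dvd_mul.1 hrX).resolve_left hrN
  obtain ⟨x, hx⟩ := exists_prime_orderOf_dvd_card' r h2
  exact ⟨x, x.2, (orderOf_coe x).trans hx⟩

theorem card_map_subtype (N : Subgroup X) (T : Subgroup N) :
    Nat.card (T.map N.subtype) = Nat.card T :=
  (Nat.card_congr (T.equivMapOfInjective _ N.subtype_injective).toEquiv).symm

/-- Odd primes of an almost simple group of this kind. -/
theorem prime_bound [Finite X] (h : IsCIT X) (N : Subgroup X) [N.Normal] (T : Sylow 2 N) {a : ℕ}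
    (ha : Nat.card (T : Subgroup N) = 2 ^ a) (ha0 : 0 < a) {r : ℕ} (hr : r.Prime) (hr2 : r ≠ 2)
    (hrX : r ∣ Nat.card X) :
    r ∣ Nat.card N ∨ ∃ i, 0 < i ∧ (i < a ∨ (i = a ∧ ∀ t ∈ (T : Subgroup N), t ^ 2 = 1)) ∧
      r ∣ 2 ^ i - 1 := by
  refine or_iff_not_imp_left.2 fun hrN => ?_
  have : Fact (Nat.Prime 2) := ⟨Nat.prime_two⟩
  obtain ⟨x, hx, hxo⟩ := exists_normalizing N T hr hrX hrN
  set T' : Subgroup X := (T : Subgroup N).map N.subtype with hT'
  have hT'p : IsPGroup 2 T' := T.2.map _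
  set Z := Recog71.omegaCenter T' 2 with hZ
  have hZT : Z ≤ T' := fun z hz => hz.1
  have hZp : IsPGroup 2 Z := hT'p.to_le hZT
  obtain ⟨i, hi⟩ := hZp.exists_card_eq
  have hT'c : Nat.card T' = 2 ^ a := (card_map_subtype N _).trans ha
  have hdvd := h.card_dvd_sub_one (R := zpowers x) hZp
    (by rw [Nat.card_zpowers, hxo]; exact hr.odd_of_ne_two hr2) (fun c hc => by
      refine mem_normalizer_of_conj ?_
      intro z hz
      exact Recog71.omegaCenter_conj (zpowers_le.2 hx hc) hz)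
  rw [Nat.card_zpowers, hxo, hi] at hdvd
  have hi0 : 0 < i := by
    by_contra h0
    obtain ⟨z, hz, hz1⟩ := Recog71.omegaCenter_ne_bot hT'p
      (by rw [hT'c]; exact dvd_pow_self 2 (by omega))
    have := (Nat.card_eq_one_iff_unique.1 (by rw [hi, show i = 0 by omega, pow_zero] :
      Nat.card Z = 1)).1
    exact hz1 (congrArg Subtype.val (Subsingleton.elim (⟨z, hz⟩ : Z) 1))
  have hia : i ≤ a := (Nat.pow_dvd_pow_iff_le_right one_lt_two).1
    (hi ▸ hT'c ▸ Subgroup.card_dvd_of_le hZT)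
  refine ⟨i, hi0, (lt_or_eq_of_le hia).imp_right fun e => ⟨e, fun t ht => ?_⟩, hdvd⟩
  have hZeq : Z = T' := Subgroup.eq_of_le_of_card_ge hZT (by rw [hi, hT'c, e])
  have : (t : X) ∈ Z := hZeq ▸ mem_map.2 ⟨t, ht, rfl⟩
  exact Subtype.ext (by simpa using this.2.2)

theorem echyp {N : Type*} [Group N] [Finite N] [IsSimpleGroup N] (hN : ¬ IsMulCommutative N)
    (h : IsCIT N) (hev : 2 ∣ Nat.card N) (T : Sylow 2 N)
    (hexp : ∀ t ∈ (T : Subgroup N), t ^ 2 = 1) : TwoFusionB.ECHyp T := by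
  have : Fact (Nat.Prime 2) := ⟨Nat.prime_two⟩
  refine ⟨SmallGroups.not_isCyclic_sylow_minFac hN ((Nat.minFac_eq_two_iff _).2 hev) T, ?_, ?_⟩
  · intro hn
    rcases hn.eq_bot_or_eq_top with e | e
    · have := T.dvd_card_of_dvd_card hev
      rw [e, card_bot] at this
      omega
    · exact hN (SmallGroups.comm_of_isPGroup ((e ▸ T.2 : IsPGroup 2 (⊤ : Subgroup N)).of_equiv
        topEquiv))
  · intro t ht
    obtain ⟨Q, hQ⟩ := (h t ht).exists_le_sylow
    obtain ⟨g, hg⟩ := MulAction.exists_smul_eq N Q T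
    have hsq : ∀ c ∈ centralizer ({t} : Set N), c ^ 2 = 1 := by
      intro c hc
      have h1 : g * c * g⁻¹ ∈ (T : Subgroup N) := by
        rw [← hg, Sylow.coe_subgroup_smul, mem_pointwise_smul_iff_inv_smul_mem]
        convert hQ hc using 1
        rw [← map_inv, MulAut.smul_def]
        simp [mul_assoc]
      have h2 := hexp _ h1
      rw [conj_pow, mul_inv_eq_one, mul_eq_left] at h2
      exact h2
    exact ⟨⟨⟨fun a b => (Commute.of_orderOf_dvd_two (G := centralizer ({t} : Set N))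
      (fun c => orderOf_dvd_iff_pow_eq_one.2 (Subtype.ext (hsq c c.2))) a b).eq⟩⟩, hsq⟩

theorem card_psl_two_even (F : Type*) [Field F] [Fintype F] {n : ℕ} (hn : 0 < n)
    (hF : Fintype.card F = 2 ^ n) :
    Nat.card (Matrix.ProjectiveSpecialLinearGroup (Fin 2) F) = 2 ^ n * (2 ^ (2 * n) - 1) := by
  have h := LinearGroup.gcd_mul_card_PSL_two (F := F)
  rw [Nat.card_eq_fintype_card (α := F), hF, ← pow_mul, Nat.Coprime.gcd_eq_one
    ((Nat.prime_two.coprime_iff_not_dvd).2 (not_two_dvd_pow_sub (k := n) hn)), one_mul,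
    mul_comm n] at h
  exact h

/-- The case of an elementary abelian Sylow `2`-subgroup. -/
theorem of_elementary [Finite X] (hcit : IsCIT X) (N : Subgroup X) [N.Normal]
    [IsSimpleGroup N] (hN : ¬ IsMulCommutative N) {m : ℕ} (hm : 4 ≤ m)
    (hP : ∀ r : ℕ, r.Prime → r ≠ 2 → (r ∣ Nat.card X ↔ r ∣ 2 ^ (2 * m) - 1))
    {F : Type*} [Field F] [Fintype F] (hF : Fintype.card F = 2 ^ m)
    (hev : 2 ∣ Nat.card N) (T : Sylow 2 N) (hexp : ∀ t ∈ (T : Subgroup N), t ^ 2 = 1) :
    Nonempty (X ≃* Matrix.ProjectiveSpecialLinearGroup (Fin 2) F) := by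
  classical
  have : Fact (Nat.Prime 2) := ⟨Nat.prime_two⟩
  have h := echyp hN (hcit.subgroup N) hev T hexp
  obtain ⟨F', iF, iFin, hF', ⟨e⟩⟩ := h.exists_iso_PSL2
  obtain ⟨n, hn⟩ := T.2.exists_card_eq
  have hn2 : 2 ≤ n := (Nat.pow_le_pow_iff_right one_lt_two).1
    (show 2 ^ 2 ≤ 2 ^ n from hn ▸ h.two_le_card)
  have hNc : Nat.card N = 2 ^ n * (2 ^ (2 * n) - 1) := by
    rw [Nat.card_congr e.toEquiv, card_psl_two_even F' (by omega) (hF'.trans hn)]
  -- `n = m`
  obtain ⟨r0, hr0, hr02, hr0d, hr0o⟩ := exists_prim (n := 2 * m) (by omega) (by omega)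
  have hmn : m ≤ n := by
    rcases prime_bound hcit N T hn (by omega) hr0 hr02 ((hP r0 hr0 hr02).2 hr0d) with
      h1 | ⟨i, hi0, hi, h1⟩
    · rw [hNc] at h1
      rcases hr0.dvd_mul.1 h1 with h1 | h1
      · exact absurd ((Nat.prime_dvd_prime_iff_eq hr0 Nat.prime_two).1 (hr0.dvd_of_dvd_pow h1)) hr02
      · have := Nat.le_of_dvd (by omega) (hr0o _ h1)
        omega
    · have := Nat.le_of_dvd hi0 (hr0o _ h1)
      omega
  have hnm : n = m := by
    obtain ⟨r1, hr1, hr12, hr1d, hr1o⟩ := exists_prim (n := 2 * n) (by omega) (by omega)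
    have := Nat.le_of_dvd (by omega) (hr1o _ ((hP r1 hr1 hr12).1
      ((hNc ▸ dvd_mul_of_dvd_right hr1d _ : r1 ∣ Nat.card N).trans (card_subgroup_dvd_card N))))
    omega
  subst hnm
  -- the normaliser of the Sylow subgroup
  set T' : Subgroup X := (T : Subgroup N).map N.subtype with hT'
  set B := normalizer (T' : Set X) with hB
  have hT'N : T' ≤ N := map_subtype_le _
  have hT'p : IsPGroup 2 T' := T.2.map _
  have hT'c : Nat.card T' = 2 ^ n := (card_map_subtype N _).trans hn
  have memT : ∀ {t : N}, (t : X) ∈ T' ↔ t ∈ (T : Subgroup N) := fun {t} =>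
    mem_map_iff_mem N.subtype_injective
  have hBN : N ⊓ B = (nT T).map N.subtype := by
    ext x
    constructor
    · rintro ⟨hxN, hxB⟩
      refine mem_map.2 ⟨⟨x, hxN⟩, ?_, rfl⟩
      refine mem_normalizer_of_conj ?_
      intro t ht
      exact memT.1 ((mem_normalizer_iff.1 hxB _).1 (memT.2 ht))
    · rintro hx
      obtain ⟨y, hy, rfl⟩ := mem_map.1 hx
      refine ⟨y.2, ?_⟩
      refine mem_normalizer_of_conj ?_
      intro t ht
      obtain ⟨t, ht', rfl⟩ := mem_map.1 ht
      exact (memT.2 ((mem_normalizer_iff.1 hy t).1 ht') : ((y * t * y⁻¹ : N) : X) ∈ T')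
  obtain ⟨y, hy⟩ := TwoFusionB.exists_ne_coset h.stronglyEmbedded (pt T)
  replace hy := hy.symm
  have hcB : Nat.card (N ⊓ B : Subgroup X) = 2 ^ n * (2 ^ n - 1) := by
    rw [hBN, card_map_subtype, h.card_nT hy, hn]
  have hidx : Nat.card (N ⊓ B : Subgroup X) * N.index = Nat.card B :=
    Recog71.card_mul_eq_of_sup_eq_top B N (Sylow.normalizer_sup_eq_top T)
  -- the index of `N` is a power of two
  have htwo : ∀ r : ℕ, r.Prime → r ∣ N.index → r = 2 := by
    intro r hr hrd
    by_contra hr2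
    have := Fact.mk hr
    obtain ⟨R⟩ : Nonempty (Sylow r B) := inferInstance
    have hRodd : Odd (Nat.card (R : Subgroup B)) := by
      obtain ⟨v, hv⟩ := R.2.exists_card_eq
      rw [hv]
      exact (hr.odd_of_ne_two hr2).pow
    have h1 := hcit.card_dvd_sub_one (R := (R : Subgroup B).map B.subtype) hT'p
      (by rwa [card_map_subtype]) ((map_subtype_le _).trans le_rfl)
    rw [card_map_subtype, hT'c] at h1
    obtain ⟨c, hc⟩ := h1.trans (dvd_mul_left _ (2 ^ n))
    apply R.not_dvd_index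
    refine dvd_trans hrd (Dvd.intro_left c ?_)
    refine Nat.eq_of_mul_eq_mul_left (Nat.card_pos (α := (R : Subgroup B))) ?_
    rw [← mul_assoc, ← hc, ← hcB, hidx, (R : Subgroup B).card_mul_index]
  have hNtop : N = ⊤ := by
    rw [← index_eq_one]
    by_contra hne
    obtain ⟨r, hr, hrd⟩ := Nat.exists_prime_and_dvd hne
    obtain rfl := htwo r hr hrd
    rw [index_eq_card] at hrd
    obtain ⟨ub, hub⟩ := exists_prime_orderOf_dvd_card' (G := X ⧸ N) 2 hrd
    obtain ⟨x0, rfl⟩ := QuotientGroup.mk'_surjective N ub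
    obtain ⟨b, hb, x1, hx1, hbx⟩ := mem_sup_of_normal_right.1
      ((Sylow.normalizer_sup_eq_top T).symm ▸ mem_top x0 : x0 ∈ B ⊔ N)
    have hbo : orderOf (QuotientGroup.mk' N b) = 2 := by
      rw [← hub, ← hbx, map_mul, show QuotientGroup.mk' N x1 = 1 from
        (QuotientGroup.eq_one_iff x1).2 hx1, mul_one]
    obtain ⟨v, w, hw, hvw⟩ :=
      Nat.exists_eq_pow_mul_and_not_dvd (orderOf_pos b).ne' 2 (by norm_num)
    set u := b ^ w with hu
    have huB : u ∈ B := pow_mem hb w
    have huN : u ∉ N := fun hm' => hw (hbo ▸ orderOf_dvd_of_pow_eq_one (by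
      rw [← map_pow]; exact (QuotientGroup.eq_one_iff _).2 hm'))
    have huo : u ^ 2 ^ v = 1 := by rw [hu, ← pow_mul, mul_comm, ← hvw, pow_orderOf_eq_one]
    have hu2 : u ^ 2 ∈ N := by
      rw [← QuotientGroup.eq_one_iff]
      show QuotientGroup.mk' N (u ^ 2) = 1
      rw [hu, ← pow_mul, mul_comm, pow_mul, map_pow, map_pow, ← hbo, pow_orderOf_eq_one, one_pow]
    set P := zpowers u ⊔ T' with hP'
    have hup : IsPGroup 2 (zpowers u) := by
      obtain ⟨w', -, hw'⟩ := (Nat.dvd_prime_pow Nat.prime_two).1 (orderOf_dvd_of_pow_eq_one huo)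
      exact IsPGroup.of_card (n := w') (by rw [Nat.card_zpowers, hw'])
    have hPp : IsPGroup 2 P := hup.to_sup_of_normal_right' hT'p (zpowers_le.2 huB)
    have huP : u ∈ P := mem_sup_left (mem_zpowers u)
    have hTP : T' ≤ P := le_sup_right
    have hPN : P ⊓ N = T' := by
      refine le_antisymm (fun x hx => ?_) (le_inf hTP hT'N)
      have h1 : IsPGroup 2 ((P ⊓ N).subgroupOf N) := (hPp.to_le inf_le_left).of_equiv
        (subgroupOfEquivOfLe inf_le_right).symm
      have h2 := T.3 h1 (fun t ht => mem_subgroupOf.2 ⟨hTP (memT.2 ht), t.2⟩)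
      exact memT.2 (h2 ▸ mem_subgroupOf.2 hx : (⟨x, hx.2⟩ : N) ∈ (T : Subgroup N))
    -- abelian Sylow subgroup
    have hTab : ∀ s ∈ T', ∀ t ∈ T', s * t = t * s := by
      intro s hs t ht
      obtain ⟨s, hs', rfl⟩ := mem_map.1 hs
      obtain ⟨t, ht', rfl⟩ := mem_map.1 ht
      exact congrArg Subtype.val (h.comm hs' ht')
    have hconjT : ∀ t ∈ T', u * t * u⁻¹ ∈ T' := fun t ht => (mem_normalizer_iff.1 huB t).1 ht
    -- a fixed point of `P`
    obtain ⟨e0, he0T, he01, he0u⟩ : ∃ e0 ∈ T', e0 ≠ 1 ∧ Commute u e0 := by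
      have := hPp.isNilpotent
      have hPB : P ≤ B := sup_le (zpowers_le.2 huB) le_normalizer
      have : (T'.subgroupOf P).Normal := ⟨fun t ht g => mem_subgroupOf.2
        ((mem_normalizer_iff.1 (hPB g.2) _).1 (mem_subgroupOf.1 ht))⟩
      have hne : T'.subgroupOf P ≠ ⊥ := fun e1 => by
        have h1 := Nat.card_congr (subgroupOfEquivOfLe hTP).toEquiv
        rw [e1, card_bot, hT'c] at h1
        have : 2 ≤ 2 ^ n := le_trans (by norm_num) (Nat.pow_le_pow_right two_pos (show 1 ≤ n by omega))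
        omega
      obtain ⟨z, hzm, hz1⟩ := (Subgroup.nontrivial_iff_exists_ne_one _).1
        ((Subgroup.nontrivial_iff_ne_bot _).2 (Fitting.inf_center_ne_bot hne))
      obtain ⟨hzT, hzC⟩ := mem_inf.1 hzm
      exact ⟨(z : X), mem_subgroupOf.1 hzT, fun e1 => hz1 (Subtype.ext e1),
        congrArg Subtype.val (mem_center_iff.1 hzC ⟨u, huP⟩)⟩
    -- a second fixed point
    obtain ⟨e1, he1T, he11, he1e, he1u⟩ : ∃ e1 ∈ T', e1 ≠ 1 ∧ e1 ≠ e0 ∧ Commute u e1 := by
      by_contra hc
      have hfix : ∀ t ∈ T', Commute u t → t = 1 ∨ t = e0 := by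
        intro t ht hct
        by_contra h2
        rw [not_or] at h2
        exact hc ⟨t, ht, h2.1, h2.2, hct⟩
      let φ : T' →* X :=
        { toFun := fun t => t * (u * t * u⁻¹)
          map_one' := by simp
          map_mul' := fun s t => by
            have h1 := hTab _ (hconjT _ s.2) _ t.2
            simp only [Subgroup.coe_mul]
            calc (s : X) * t * (u * (s * t) * u⁻¹)
                = s * (t * (u * s * u⁻¹)) * (u * t * u⁻¹) := by group
              _ = s * ((u * s * u⁻¹) * t) * (u * t * u⁻¹) := by rw [← h1]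
              _ = s * (u * s * u⁻¹) * (t * (u * t * u⁻¹)) := by group }
      have hu2T : u ^ 2 ∈ T' := hPN ▸ mem_inf.2 ⟨pow_mem huP 2, hu2⟩
      have hfixu : ∀ t ∈ T', Commute u (t * (u * t * u⁻¹)) := by
        intro t ht
        have h1 : u ^ 2 * t = t * u ^ 2 := hTab _ hu2T _ ht
        have h2 := hTab _ ht _ (hconjT t ht)
        show u * (t * (u * t * u⁻¹)) = t * (u * t * u⁻¹) * u
        calc u * (t * (u * t * u⁻¹)) = u * t * u⁻¹ * (u ^ 2 * t) * u⁻¹ := by rw [sq]; group
          _ = (u * t * u⁻¹) * t * u := by rw [h1, sq]; group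
          _ = t * (u * t * u⁻¹) * u := by rw [h2]
      have hrange : Nat.card φ.range ≤ 2 := by
        have : (φ.range : Set X) ⊆ {1, e0} := by
          rintro _ ⟨t, rfl⟩
          exact hfix _ (mul_mem t.2 (hconjT _ t.2)) (hfixu t t.2)
        calc Nat.card φ.range = (φ.range : Set X).ncard := rfl
          _ ≤ ({1, e0} : Set X).ncard := Set.ncard_le_ncard this
          _ ≤ 2 := (Set.ncard_insert_le _ _).trans (by simp)
      have hker : Nat.card φ.ker ≤ 2 := by
        have : ((φ.ker.map T'.subtype : Subgroup X) : Set X) ⊆ {1, e0} := by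
          rintro _ ⟨t, ht, rfl⟩
          refine hfix _ t.2 ?_
          have h1 : (t : X) * (u * t * u⁻¹) = 1 := ht
          obtain ⟨t', ht', htt⟩ := mem_map.1 t.2
          have h2 : (t : X)⁻¹ = t := by
            rw [← htt]
            have h4 : t' * t' = 1 := by rw [← sq]; exact hexp t' ht'
            exact congrArg (N.subtype) (inv_eq_of_mul_eq_one_right h4)
          have h3 : u * (t : X) * u⁻¹ = t := (inv_eq_of_mul_eq_one_right h1).symm.trans h2
          exact mul_inv_eq_iff_eq_mul.1 h3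
        rw [← card_map_subtype T' φ.ker]
        calc Nat.card (φ.ker.map T'.subtype) = ((φ.ker.map T'.subtype : Subgroup X) : Set X).ncard := rfl
          _ ≤ ({1, e0} : Set X).ncard := Set.ncard_le_ncard this
          _ ≤ 2 := (Set.ncard_insert_le _ _).trans (by simp)
      have h3 := φ.ker.card_mul_index
      rw [index_ker, hT'c] at h3
      have h4 : 2 ^ 4 ≤ 2 ^ n := Nat.pow_le_pow_right two_pos hm
      have h5 := Nat.mul_le_mul hker hrange
      omega
    -- conjugate them in `N`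
    obtain ⟨e0, he0', rfl⟩ := mem_map.1 he0T
    obtain ⟨e1, he1', rfl⟩ := mem_map.1 he1T
    have hpt : ∀ {t : N}, t ∈ (T : Subgroup N) → t • pt T = pt T := fun ht =>
      TwoFusionB.smul_one_eq_iff.mpr (le_normalizer ht)
    obtain ⟨a, hay, ha1, had⟩ := TwoFusionB.exists_conj_fix h.stronglyEmbedded hy
      (h.orderOf_eq_two he0' fun e2 => he01 (by rw [e2]; simp)) (hpt he0')
      (h.orderOf_eq_two he1' fun e2 => he11 (by rw [e2]; simp)) (hpt he1')
    have haS : a ∈ stab2 T y := ⟨ha1, hay⟩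
    have hane : a ≠ 1 := by
      rintro rfl
      exact he1e (by simpa using congrArg (N.subtype) had.symm)
    have haodd : Odd (orderOf (a : X)) := by
      rw [orderOf_coe]
      exact (h.odd_card_stab2 hy).of_dvd_nat (Subgroup.orderOf_dvd_natCard _ haS)
    have haB : (a : X) ∈ B := (hBN ▸ mem_map.2 ⟨a, TwoFusionB.ECHyp.stab2_le y haS, rfl⟩ :
      (a : X) ∈ N ⊓ B).2
    -- `u` maps `a` into the coset `a T`
    set w := (a : X)⁻¹ * u * a * u⁻¹ with hw'
    have hwN : w ∈ N := by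
      rw [hw', show (a : X)⁻¹ * u * a * u⁻¹ = (a : X)⁻¹ * (u * a * u⁻¹) by group]
      exact mul_mem (inv_mem a.2) ((inferInstance : N.Normal).conj_mem _ a.2 u)
    have hwe : Commute w (e0 : X) := by
      have h1 : (a : X) * e0 * (a : X)⁻¹ = e1 := by
        rw [← had]; rfl
      have h2 : Commute ((a : X)⁻¹ * u * a) (e0 : X) := by
        have h3 : Commute u ((a : X) * e0 * (a : X)⁻¹) := h1 ▸ he1u
        show (a : X)⁻¹ * u * a * e0 = e0 * ((a : X)⁻¹ * u * a)
        calc (a : X)⁻¹ * u * a * e0 = (a : X)⁻¹ * (u * ((a : X) * e0 * (a : X)⁻¹)) * a := by group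
          _ = (a : X)⁻¹ * ((a : X) * e0 * (a : X)⁻¹ * u) * a := by rw [h3.eq]
          _ = e0 * ((a : X)⁻¹ * u * a) := by group
      exact h2.mul_left he0u.inv_left
    have hwT : w ∈ T' := by
      have h1 : (⟨w, hwN⟩ : N) ∈ centralizer ({e0} : Set N) :=
        mem_centralizer_singleton_iff.2 (Subtype.ext hwe)
      rw [h.centralizer_eq he0' fun e2 => he01 (by rw [e2]; simp)] at h1
      exact memT.2 h1
    let ψ : T' → T' := fun t => ⟨((a : X)⁻¹ * t * a) * (t : X)⁻¹, mul_mem
      (by simpa using (mem_normalizer_iff.1 (inv_mem haB) _).1 t.2) (inv_mem t.2)⟩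
    have hψ : Function.Injective ψ := by
      intro s t hst
      have hst' : (a : X)⁻¹ * s * a * (s : X)⁻¹ = (a : X)⁻¹ * t * a * (t : X)⁻¹ :=
        congrArg Subtype.val hst
      have hc : Commute ((t : X)⁻¹ * s) a := by
        have h1 : (a : X)⁻¹ * s * a = ((a : X)⁻¹ * t * a) * ((t : X)⁻¹ * s) := by
          calc (a : X)⁻¹ * s * a = (a : X)⁻¹ * s * a * (s : X)⁻¹ * s := by group
            _ = (a : X)⁻¹ * t * a * (t : X)⁻¹ * s := by rw [hst']
            _ = _ := by group
        show (t : X)⁻¹ * s * a = a * ((t : X)⁻¹ * s)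
        calc (t : X)⁻¹ * s * a = (t : X)⁻¹ * a * ((a : X)⁻¹ * s * a) := by group
          _ = (t : X)⁻¹ * a * (((a : X)⁻¹ * t * a) * ((t : X)⁻¹ * s)) := by rw [h1]
          _ = a * ((t : X)⁻¹ * s) := by group
      by_contra hne
      have := hcit.eq_one_of_mem_twoGroup hT'p (mul_mem (inv_mem t.2) s.2)
        (fun e2 => hne (Subtype.ext (inv_mul_eq_one.1 e2).symm)) hc haodd
      exact hane (Subtype.ext this)
    obtain ⟨t, ht⟩ := (Finite.injective_iff_surjective.1 hψ) ⟨w, hwT⟩
    have ht' : (a : X)⁻¹ * t * a * (t : X)⁻¹ = (a : X)⁻¹ * u * a * u⁻¹ := congrArg Subtype.val ht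
    have hc : Commute ((t : X)⁻¹ * u) a := by
      have h1 : (t : X) * a * (t : X)⁻¹ = u * a * u⁻¹ := by
        calc (t : X) * a * (t : X)⁻¹ = a * ((a : X)⁻¹ * t * a * (t : X)⁻¹) := by group
          _ = a * ((a : X)⁻¹ * u * a * u⁻¹) := by rw [ht']
          _ = u * a * u⁻¹ := by group
      show (t : X)⁻¹ * u * a = a * ((t : X)⁻¹ * u)
      calc (t : X)⁻¹ * u * a = (t : X)⁻¹ * (u * a * u⁻¹) * u := by group
        _ = (t : X)⁻¹ * (t * a * (t : X)⁻¹) * u := by rw [h1]
        _ = a * ((t : X)⁻¹ * u) := by group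
    refine hane (Subtype.ext (hcit.eq_one_of_mem_twoGroup hPp
      (mul_mem (inv_mem (hTP t.2)) huP) (fun e2 => huN ?_) hc haodd))
    rw [← inv_mul_eq_one.1 e2]
    exact hT'N t.2
  subst hNtop
  exact ⟨topEquiv.symm.trans (e.trans (LinearGroup.pslCongr
    (FiniteField.ringEquivOfCardEq (by rw [hF', hn, hF]))))⟩

/-- The almost simple step. -/
theorem almost [Finite X] (hcit : IsCIT X) (N : Subgroup X) [N.Normal] [IsSimpleGroup N]
    (hN : ¬ IsMulCommutative N) (hev : 2 ∣ Nat.card N) (hlist : SimpleList N) {m : ℕ} (hm : 4 ≤ m)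
    (hP : ∀ r : ℕ, r.Prime → r ≠ 2 → (r ∣ Nat.card X ↔ r ∣ 2 ^ (2 * m) - 1))
    (h15 : m = 6 → ∀ x : X, orderOf x ≠ 15)
    {F : Type*} [Field F] [Fintype F] (hF : Fintype.card F = 2 ^ m) :
    Nonempty (X ≃* Matrix.ProjectiveSpecialLinearGroup (Fin 2) F) := by
  have : Fact (Nat.Prime 2) := ⟨Nat.prime_two⟩
  obtain ⟨T⟩ : Nonempty (Sylow 2 N) := inferInstance
  by_cases hexp : ∀ t ∈ (T : Subgroup N), t ^ 2 = 1
  · exact of_elementary hcit N hN hm hP hF hev T hexp
  exfalso
  obtain ⟨a, ha⟩ := T.2.exists_card_eq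
  have ha0 : 0 < a := by
    by_contra h0
    have h1 := T.dvd_card_of_dvd_card hev
    rw [ha, show a = 0 by omega] at h1
    norm_num at h1
  have hb : ∀ r : ℕ, r.Prime → r ≠ 2 → r ∣ Nat.card X →
      r ∣ Nat.card N ∨ ∃ i, 0 < i ∧ i < a ∧ r ∣ 2 ^ i - 1 := fun r hr hr2 hrX =>
    (prime_bound hcit N T ha ha0 hr hr2 hrX).imp_right fun ⟨i, h0, h1, h2⟩ =>
      ⟨i, h0, h1.resolve_right fun h3 => hexp h3.2, h2⟩
  have hc : (∃ p k : ℕ, p.Prime ∧ (p = 2 ^ k + 1 ∨ p + 1 = 2 ^ k) ∧
        Nat.card N * 2 = p * (p ^ 2 - 1)) ∨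
      Nat.card N = 360 ∨ Nat.card N = 20160 ∨
      ∃ j : ℕ, 1 ≤ j ∧ Nat.card N =
        (2 ^ (2 * j + 1)) ^ 2 * ((2 ^ (2 * j + 1)) ^ 2 + 1) * (2 ^ (2 * j + 1) - 1) := by
    rcases hlist with ⟨K, iK, iKf, hK, ⟨e⟩⟩ | ⟨K, iK, iKf, hK, ⟨e⟩⟩ | ⟨-, j, hj, hjc⟩
    · have hcard := Nat.card_congr e.toEquiv
      have hg := LinearGroup.gcd_mul_card_PSL_two (F := K)
      rw [Nat.card_eq_fintype_card (α := K), ← hcard] at hg
      rcases hK with h9 | ⟨n, hn⟩ | ⟨hp, k, hk⟩
      · refine Or.inr (Or.inl ?_)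
        rw [h9] at hg
        norm_num at hg
        omega
      · -- the Sylow subgroup would be elementary abelian
        exfalso
        have : CharP K 2 := by
          obtain ⟨p, hp⟩ := CharP.exists K
          obtain ⟨v, hp', hv⟩ := FiniteField.card K p
          have h2 : p ∣ 2 ^ n := hn ▸ hv ▸ dvd_pow_self p v.ne_zero
          rwa [(Nat.prime_dvd_prime_iff_eq hp' Nat.prime_two).1 (hp'.dvd_of_dvd_pow h2)] at hp
        apply hexp
        intro t ht
        have h1 : orderOf (e t) ∈ Set.range (orderOf : Matrix.ProjectiveSpecialLinearGroup (Fin 2) K → ℕ) :=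
          ⟨_, rfl⟩
        rw [SL2Tor.range_orderOf_psl 2, e.orderOf_eq, Set.mem_setOf_eq] at h1
        obtain ⟨v, hv⟩ := IsPGroup.iff_orderOf.1 T.2 ⟨t, ht⟩
        rw [Subgroup.orderOf_mk] at hv
        rw [← orderOf_dvd_iff_pow_eq_one]
        have hn0 : n ≠ 0 := by
          rintro rfl
          have := Fintype.one_lt_card (α := K)
          simp at hn
          omega
        have hodd : ∀ {M : ℕ}, ¬ 2 ∣ M → orderOf t ∣ M → orderOf t ∣ 2 := by
          intro M hM hd
          rw [hv] at hd ⊢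
          rcases v with _ | v
          · exact one_dvd _
          · exact absurd ((dvd_pow_self 2 v.succ_ne_zero).trans hd) hM
        have h2 : 2 ∣ 2 ^ n := dvd_pow_self 2 hn0
        have h3 : 1 ≤ 2 ^ n := Nat.one_le_pow _ _ two_pos
        rcases h1 with h1 | h1 | h1
        · exact h1
        · exact hodd (M := 2 ^ n - 1) (by omega) ((h1.trans (Nat.div_dvd_of_dvd (Nat.gcd_dvd_right _ _))).trans
            (dvd_of_eq (by rw [hn])))
        · rw [hn, Nat.Coprime.gcd_eq_one ((Nat.prime_two.coprime_iff_not_dvd).2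
            (by omega : ¬ 2 ∣ 2 ^ n - 1)), Nat.div_one] at h1
          exact hodd (M := 2 ^ n + 1) (by omega) h1
      · rcases eq_or_ne (Fintype.card K) 2 with h2 | h2
        · -- `PSL₂(2)` has order six
          rcases hk with hk | hk <;> rw [h2] at hk
          · have hk0 : k = 0 := by
              rcases k with _ | k
              · rfl
              · rw [pow_succ] at hk; omega
            exfalso
            rw [h2] at hg
            norm_num at hg
            have : Fact (Nat.Prime 3) := ⟨Nat.prime_three⟩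
            have hm3 := SmallGroups.card_sylow_mem_list (G := N) (p := 3) (a := 1) (m := 2)
              (by rw [hg]; norm_num) (by norm_num)
            rw [show (Nat.divisors 2).filter (fun d => d % 3 = 1) = {1} by decide +kernel,
              Finset.mem_singleton] at hm3
            exact SmallGroups.card_sylow_ne_one hN (by rw [hg]; norm_num) hm3
          · rcases k with _ | k
            · norm_num at hk
            · rw [pow_succ] at hk; omega
        · refine Or.inl ⟨Fintype.card K, k, hp, hk, ?_⟩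
          have hodd := hp.odd_of_ne_two h2
          obtain ⟨v, hv⟩ := hodd
          rw [show Fintype.card K - 1 = 2 * v by omega, Nat.gcd_mul_right_right] at hg
          rw [mul_comm, hg]
    · refine Or.inr (Or.inr (Or.inl ?_))
      have hg := LinearGroup.gcd_mul_card_PSL (F := K) (n := Fin 3)
      rw [LinearGroup.card_SL_eq_pow_mul_prod 2, Nat.card_eq_fintype_card (α := K),
        ← Nat.card_congr e.toEquiv, hK, Fintype.card_fin] at hg
      simp [Fin.sum_univ_succ, Finset.prod_range_succ] at hg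
      omega
    · exact Or.inr (Or.inr (Or.inr ⟨j, hj, hjc⟩))
  obtain ⟨hcN, hm6⟩ := not_listed hm (card_subgroup_dvd_card N) (ha ▸ card_subgroup_dvd_card _)
    hP hb hc
  -- the exceptional case: an element of order `15`
  have : Fact (Nat.Prime 5) := ⟨by norm_num⟩
  have : Fact (Nat.Prime 3) := ⟨Nat.prime_three⟩
  obtain ⟨Q⟩ : Nonempty (Sylow 5 N) := inferInstance
  obtain ⟨x, hx, hxo⟩ := exists_normalizing N Q Nat.prime_three
    ((hP 3 Nat.prime_three (by norm_num)).2 (by rw [hm6]; norm_num)) (by rw [hcN]; norm_num)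
  set Q' : Subgroup X := (Q : Subgroup N).map N.subtype with hQ'
  have hQc : Nat.card Q' = 5 := by
    rw [hQ', card_map_subtype, Sylow.card_eq_multiplicity, hcN]
    rw [show (29120 : ℕ).factorization 5 = 1 by
      rw [show (29120 : ℕ) = 5 ^ 1 * 5824 by norm_num, Nat.factorization_mul (by norm_num) (by norm_num),
        Nat.Prime.factorization_pow (by norm_num)]
      simp [Nat.factorization_eq_zero_of_not_dvd (show ¬ 5 ∣ 5824 by norm_num)]]
    norm_num
  classical
  let := Fintype.ofFinite Q'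
  let σ : Equiv.Perm {q : Q' // q ≠ 1} :=
    Equiv.ofBijective (fun q => ⟨⟨x * (q.1 : X) * x⁻¹, (mem_normalizer_iff.1 hx _).1 q.1.2⟩,
      fun e => q.2 (Subtype.ext (by
        have e1 : x * (q.1 : X) * x⁻¹ = 1 := congrArg Subtype.val e
        simpa using e1))⟩)
      (Finite.injective_iff_bijective.1 fun q q' e => by
        have e1 : x * (q.1 : X) * x⁻¹ = x * (q'.1 : X) * x⁻¹ :=
          congrArg (fun z : {q : Q' // q ≠ 1} => ((z.1 : Q') : X)) e
        exact Subtype.ext (Subtype.ext (mul_left_cancel (mul_right_cancel e1))))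
  have hσk : ∀ k, ∀ q, (((σ ^ k) q).1 : X) = x ^ k * (q.1 : X) * (x ^ k)⁻¹ := by
    intro k
    induction k with
    | zero => simp
    | succ k ih =>
      intro q
      rw [pow_succ', Equiv.Perm.mul_apply]
      show x * (((σ ^ k) q).1 : X) * x⁻¹ = _
      rw [ih, pow_succ']
      group
  obtain ⟨q, hq⟩ := Equiv.Perm.exists_fixed_point_of_prime (p := 3) (n := 1) (σ := σ)
    (by rw [Fintype.card_subtype_compl, Fintype.card_subtype_eq, ← Nat.card_eq_fintype_card, hQc]
        norm_num) (by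
      ext q
      rw [pow_one, hσk 3 q, ← hxo, pow_orderOf_eq_one, Equiv.Perm.coe_one, id]
      simp)
  have hqc : Commute x (q.1 : X) := mul_inv_eq_iff_eq_mul.1
    (congrArg (fun z : {q : Q' // q ≠ 1} => ((z.1 : Q') : X)) hq)
  have hqo : orderOf (q.1 : X) = 5 := by
    rw [orderOf_coe]
    have h1 := orderOf_dvd_natCard q.1
    rw [hQc] at h1
    exact ((Nat.dvd_prime (by norm_num)).1 h1).resolve_left fun e => q.2 (orderOf_eq_one_iff.1 e)
  exact h15 hm6 (x * q.1) (by
    rw [hqc.orderOf_mul_eq_mul_orderOf_of_coprime (by rw [hxo, hqo]; norm_num), hxo, hqo])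

end Cfsg.Agent.PGraphCIT
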