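import Cfsg.Agent.S0225
import Cfsg.Agent.PF14.Compose
import Cfsg.Agent.RecogB.Socle
import Cfsg.Agent.Lib.Fitting.Minimal
import Cfsg.Agent.Lib.Coprime.Generation
import Cfsg.Agent.Lib.Frobenius.FixedPointFree
import Cfsg.Agent.Lib.Thompson.Cores
import Mathlib

/-!
# Groups in which the centralisers of involutions are `2`-groups

A non-solvable such group is, modulo `O_2`, an extension of a non-abelian simple normal subgroup
with trivial centraliser.
-/

set_option autoImplicit false

namespace Cfsg.Agent.PGraphCIT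

open Subgroup

variable {G : Type*} [Group G]

/-- The centraliser of every involution is a `2`-group. -/
def IsCIT (G : Type*) [Group G] : Prop :=
  ∀ t : G, orderOf t = 2 → IsPGroup 2 (centralizer ({t} : Set G))

theorem IsCIT.of_odd_prime_commute [Finite G]
    (h : ∀ r : ℕ, r.Prime → r ≠ 2 → ¬ ∃ g : G, orderOf g = 2 * r) : IsCIT G := by
  intro t ht
  refine IsPGroup.of_card (n := (Nat.card (centralizer ({t} : Set G))).primeFactorsList.length)
    (Nat.eq_prime_pow_of_unique_prime_dvd Nat.card_pos.ne' fun {r} hr hrd => ?_)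
  by_contra hr2
  have := Fact.mk hr
  obtain ⟨x, hx⟩ := exists_prime_orderOf_dvd_card' r hrd
  have hc : Commute t (x : G) := (mem_centralizer_singleton_iff.1 x.2).symm
  refine h r hr hr2 ⟨t * x, ?_⟩
  have hx' : orderOf (x : G) = r := (orderOf_coe x).trans hx
  rw [hc.orderOf_mul_eq_mul_orderOf_of_coprime (by
    rw [ht, hx']; exact (Nat.coprime_primes Nat.prime_two hr).2 (Ne.symm hr2)), ht, hx']

theorem exists_involution_pow [Finite G] {v : G} {k : ℕ} (hv : v ^ 2 ^ k = 1) (hv1 : v ≠ 1) :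
    ∃ j : ℕ, orderOf (v ^ j) = 2 := by
  obtain ⟨i, -, hi⟩ := (Nat.dvd_prime_pow Nat.prime_two).1 (orderOf_dvd_of_pow_eq_one hv)
  rcases i with _ | i
  · exact absurd (orderOf_eq_one_iff.1 (by simpa using hi)) hv1
  · refine ⟨2 ^ i, ?_⟩
    rw [orderOf_pow, hi, Nat.gcd_eq_right (pow_dvd_pow 2 (Nat.le_succ i)),
      Nat.pow_div (Nat.le_succ i) two_pos]
    simp

theorem IsCIT.eq_one [Finite G] (h : IsCIT G) {t x : G} (ht : orderOf t = 2) (hc : Commute t x)
    (hx : Odd (orderOf x)) : x = 1 := by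
  obtain ⟨k, hk⟩ := h t ht ⟨x, mem_centralizer_singleton_iff.2 hc.eq.symm⟩
  have h1 : orderOf x ∣ 2 ^ k := orderOf_dvd_of_pow_eq_one (congrArg Subtype.val hk)
  exact orderOf_eq_one_iff.1
    (Nat.eq_one_of_dvd_one (((Nat.coprime_two_left.2 hx).pow_left k).gcd_eq_one ▸
      Nat.dvd_gcd h1 dvd_rfl))

/-- An element of odd order centralising a nontrivial `2`-element is trivial. -/
theorem IsCIT.eq_one_of_two_elt [Finite G] (h : IsCIT G) {v x : G} {k : ℕ} (hv : v ^ 2 ^ k = 1)
    (hv1 : v ≠ 1) (hc : Commute v x) (hx : Odd (orderOf x)) : x = 1 := by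
  obtain ⟨j, hj⟩ := exists_involution_pow hv hv1
  exact h.eq_one hj (hc.pow_left j) hx

theorem IsCIT.eq_one_of_mem_twoGroup [Finite G] (h : IsCIT G) {Z : Subgroup G} (hZ : IsPGroup 2 Z)
    {v x : G} (hvZ : v ∈ Z) (hv1 : v ≠ 1) (hc : Commute v x) (hx : Odd (orderOf x)) : x = 1 := by
  obtain ⟨k, hk⟩ := hZ ⟨v, hvZ⟩
  exact h.eq_one_of_two_elt (congrArg Subtype.val hk) hv1 hc hx

/-- An odd order subgroup normalising a `2`-subgroup acts on it semiregularly. -/
theorem IsCIT.card_dvd_sub_one [Finite G] (h : IsCIT G) {Z R : Subgroup G} (hZ : IsPGroup 2 Z)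
    (hR : Odd (Nat.card R)) (hn : R ≤ normalizer (Z : Set G)) :
    Nat.card R ∣ Nat.card Z - 1 := by
  refine Frobenius.IsFPF.card_dvd_card_sub_one ⟨hn, fun a ha ha1 => ?_⟩
  rw [Subgroup.eq_bot_iff_forall]
  intro v hv
  obtain ⟨hvZ, hvC⟩ := mem_inf.1 hv
  by_contra hv1
  exact ha1 (h.eq_one_of_mem_twoGroup hZ hvZ hv1 (mem_centralizer_singleton_iff.1 hvC)
    (hR.of_dvd_nat (Subgroup.orderOf_dvd_natCard R ha)))

/-- An element of odd order normalising a `2`-group centralises no coset representative. -/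
theorem IsCIT.dvd_of_odd [Finite G] (h : IsCIT G) {x : G} {S : Finset G} (hx : Odd (orderOf x))
    (hS : ∀ v ∈ S, x * v * x⁻¹ ∈ S) (h2 : ∀ v ∈ S, v ≠ 1 ∧ ∃ k, v ^ 2 ^ k = 1) :
    orderOf x ∣ S.card := by
  classical
  have hmem : ∀ c ∈ zpowers x, ∀ v ∈ S, c * v * c⁻¹ ∈ S := by
    intro c hc
    obtain ⟨n, rfl⟩ := (mem_powers_iff_mem_zpowers.2 hc)
    induction n with
    | zero => intro v hv; simpa using hv
    | succ n ih =>
      intro v hv
      have := ih (mem_zpowers_iff.2 ⟨n, by simp⟩) _ (hS v hv)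
      simpa [pow_succ, mul_assoc] using this
  let act : MulAction (zpowers x) S :=
    { smul := fun c v => ⟨(c : G) * v * (c : G)⁻¹, hmem c c.2 v v.2⟩
      one_smul := fun v => Subtype.ext (by
        show (1 : G) * (v : G) * (1 : G)⁻¹ = v
        simp)
      mul_smul := fun c d v => Subtype.ext (by
        show ((c : G) * d) * v * ((c : G) * d)⁻¹ = (c : G) * ((d : G) * v * (d : G)⁻¹) * (c : G)⁻¹
        group) }
  have hfree : ∀ v : S, MulAction.stabilizer (zpowers x) v = ⊥ := by
    intro v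
    rw [Subgroup.eq_bot_iff_forall]
    intro c hc
    rw [MulAction.mem_stabilizer_iff] at hc
    have hc' : (c : G) * v * (c : G)⁻¹ = v := congrArg Subtype.val hc
    obtain ⟨hv1, k, hk⟩ := h2 v v.2
    refine Subtype.ext (h.eq_one_of_two_elt hk hv1 (mul_inv_eq_iff_eq_mul.1 hc').symm
      (hx.of_dvd_nat (Nat.card_zpowers x ▸ Subgroup.orderOf_dvd_natCard (zpowers x) c.2)))
  have key := Nat.card_congr (MulAction.selfEquivOrbitsQuotientProd (G := zpowers x) (X := S) hfree)
  rw [Nat.card_eq_finsetCard, Nat.card_prod, Nat.card_zpowers] at key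
  exact key ▸ dvd_mul_left _ _

/-- The property passes to the quotient by a normal `2`-subgroup. -/
theorem IsCIT.quotient [Finite G] (h : IsCIT G) (K : Subgroup G) [K.Normal] (hK : IsPGroup 2 K) :
    IsCIT (G ⧸ K) := by
  classical
  refine IsCIT.of_odd_prime_commute fun r hr hr2 => ?_
  rintro ⟨g, hg⟩
  have := Fact.mk hr
  set t := g ^ r with ht
  set y := g ^ 2 with hy
  have hto : orderOf t = 2 := by
    rw [ht, orderOf_pow, hg, Nat.gcd_eq_right (dvd_mul_left r 2), Nat.mul_div_cancel _ hr.pos]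
  have hyo : orderOf y = r := by
    rw [hy, orderOf_pow, hg, Nat.gcd_eq_right (dvd_mul_right 2 r), Nat.mul_div_cancel_left _ two_pos]
  have hc : Commute t y := (Commute.refl g).pow_pow r 2
  obtain ⟨x₀, hx₀⟩ := QuotientGroup.mk'_surjective K y
  obtain ⟨e, m, hm, hem⟩ :=
    Nat.exists_eq_pow_mul_and_not_dvd (orderOf_pos x₀).ne' 2 (by norm_num)
  set x := x₀ ^ 2 ^ e with hx
  have hxo : orderOf x = m := by
    rw [hx, orderOf_pow, hem, Nat.gcd_eq_right (dvd_mul_right _ m),
      Nat.mul_div_cancel_left _ (pow_pos two_pos e)]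
  have hxodd : Odd (orderOf x) := by
    rw [hxo, Nat.odd_iff]
    exact Nat.two_dvd_ne_zero.1 hm
  have hxy : QuotientGroup.mk' K x = y ^ 2 ^ e := by rw [hx, map_pow, hx₀]
  have hrx : r ∣ orderOf x := by
    have h1 := orderOf_map_dvd (QuotientGroup.mk' K) x
    rwa [hxy, orderOf_pow, hyo, Nat.Coprime.gcd_eq_one
      ((Nat.coprime_primes hr Nat.prime_two).2 hr2 |>.pow_right e), Nat.div_one] at h1
  let := Fintype.ofFinite G
  let S : Finset G := Finset.univ.filter fun v => QuotientGroup.mk' K v = t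
  have hS : ∀ v, v ∈ S ↔ QuotientGroup.mk' K v = t := fun v =>
    Finset.mem_filter.trans (and_iff_right (Finset.mem_univ v))
  have hdvd : orderOf x ∣ S.card := by
    refine h.dvd_of_odd hxodd (fun v hv => ?_) (fun v hv => ⟨fun e1 => ?_, ?_⟩)
    · rw [hS] at hv ⊢
      rw [map_mul, map_mul, map_inv, hv, hxy, (hc.pow_right _).eq.symm, mul_inv_cancel_right]
    · rw [hS, e1, map_one] at hv
      rw [← hv, orderOf_one] at hto
      omega
    · rw [hS] at hv
      obtain ⟨k, hk⟩ := hK ⟨v ^ 2, by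
        rw [← QuotientGroup.eq_one_iff]
        show QuotientGroup.mk' K (v ^ 2) = 1
        rw [map_pow, hv, ← hto, pow_orderOf_eq_one]⟩
      refine ⟨k + 1, ?_⟩
      rw [pow_succ', pow_mul]
      exact congrArg Subtype.val hk
  have hcard : S.card = Nat.card K := by
    obtain ⟨v₀, hv₀⟩ := QuotientGroup.mk'_surjective K t
    rw [← Nat.card_eq_finsetCard]
    let E : K ≃ S :=
      { toFun := fun k => (⟨v₀ * k, by
          rw [hS, map_mul, hv₀, show QuotientGroup.mk' K (k : G) = 1 from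
            (QuotientGroup.eq_one_iff _).2 k.2, mul_one]⟩ : S)
        invFun := fun v => ⟨v₀⁻¹ * v, by
          rw [← QuotientGroup.eq_one_iff]
          show QuotientGroup.mk' K (v₀⁻¹ * (v : G)) = 1
          rw [map_mul, map_inv, hv₀, (hS _).1 v.2, inv_mul_cancel]⟩
        left_inv := fun k => by simp
        right_inv := fun v => by simp }
    exact (Nat.card_congr E).symm
  obtain ⟨n, hn⟩ := hK.exists_card_eq
  exact hr2 ((Nat.prime_dvd_prime_iff_eq hr Nat.prime_two).1
    (hr.dvd_of_dvd_pow ((hrx.trans hdvd).trans (dvd_of_eq (hcard.trans hn)))))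

theorem pCore_quotient_eq_bot [Finite G] : Cfsg.pCore 2 (G ⧸ Cfsg.pCore 2 G) = ⊥ := by
  have : Fact (Nat.Prime 2) := ⟨Nat.prime_two⟩
  set K := Cfsg.pCore 2 G with hK
  set π := QuotientGroup.mk' K
  set M := (Cfsg.pCore 2 (G ⧸ K)).comap π with hM
  have hp : IsPGroup 2 M := IsPGroup.comap_of_ker_isPGroup Thompson.isPGroup_pCore π
    (by rw [QuotientGroup.ker_mk']; exact Thompson.isPGroup_pCore)
  have hle : M ≤ K := Thompson.le_pCore inferInstance hp
  rw [eq_bot_iff, ← map_comap_eq_self_of_surjective (QuotientGroup.mk'_surjective K)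
    (Cfsg.pCore 2 (G ⧸ K))]
  exact (map_mono hle).trans (le_of_eq ((map_eq_bot_iff K).2 (QuotientGroup.ker_mk' K).ge))

/-- Without a four group a non-solvable such group does not exist. -/
theorem IsCIT.exists_klein {G : Type*} [Group G] [Finite G] (h : IsCIT G)
    (hns : ¬ Group.IsSolvable G) : ∃ V : Subgroup G, IsKleinFour V := by
  by_contra hc
  simp only [not_exists] at hc
  have heven : Even (Nat.card G) := by
    by_contra ho
    exact hns (PF14.feitThompson G (Nat.not_even_iff_odd.1 ho))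
  obtain ⟨z, hz, N, hN, hodd, hzN⟩ := S0225.result heven hc
  set π := QuotientGroup.mk' N with hπ
  have hcent : ∀ q : G ⧸ N, Commute (π z) q := by
    intro q
    obtain ⟨g, rfl⟩ := QuotientGroup.mk'_surjective N q
    have h1 : π (z * g * z⁻¹ * g⁻¹) = 1 := (QuotientGroup.eq_one_iff _).2 (hzN g)
    simp only [map_mul, map_inv] at h1
    rw [mul_inv_eq_one, mul_inv_eq_iff_eq_mul] at h1
    exact h1
  -- every coset of `N` contains an element commuting with `z`
  have hsplit : ∀ g : G, ∃ n ∈ N, Commute z (g * n) := by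
    intro g
    classical
    let := Fintype.ofFinite N
    have hmem : ∀ n : N, g⁻¹ * z * g * n * z⁻¹ ∈ N := fun n => by
      have h1 : g⁻¹ * z * g * z⁻¹ ∈ N := by
        have := inv_mem (hzN g⁻¹)
        rwa [show (z * g⁻¹ * z⁻¹ * g⁻¹⁻¹)⁻¹ = g⁻¹ * z * g * z⁻¹ by group] at this
      rw [show g⁻¹ * z * g * (n : G) * z⁻¹ = (g⁻¹ * z * g * z⁻¹) * (z * n * z⁻¹) by group]
      exact mul_mem h1 (hN.conj_mem _ n.2 z)
    let σ : N → N := fun n => ⟨g⁻¹ * z * g * n * z⁻¹, hmem n⟩
    have hz2 : z * z = 1 := by rw [← sq, ← hz, pow_orderOf_eq_one]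
    have hσ : Function.Involutive σ := fun n => Subtype.ext (by
      show g⁻¹ * z * g * (g⁻¹ * z * g * n * z⁻¹) * z⁻¹ = n
      have hzi : z⁻¹ = z := inv_eq_of_mul_eq_one_right hz2
      rw [show g⁻¹ * z * g * (g⁻¹ * z * g * (n : G) * z⁻¹) * z⁻¹ =
        g⁻¹ * (z * z) * g * n * (z⁻¹ * z⁻¹) by group, hzi, hz2]
      group)
    have : Fact (Nat.Prime 2) := ⟨Nat.prime_two⟩
    obtain ⟨n, hn⟩ := Equiv.Perm.exists_fixed_point_of_prime (p := 2) (n := 1)
      (σ := hσ.toPerm) (by
        rw [← Nat.card_eq_fintype_card]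
        exact fun hd => Nat.not_even_iff_odd.2 hodd (even_iff_two_dvd.2 hd)) (by
        ext m
        simp [pow_succ, hσ m])
    refine ⟨n, n.2, ?_⟩
    have h2 : g⁻¹ * z * g * n * z⁻¹ = n := congrArg Subtype.val hn
    calc z * (g * n) = g * (g⁻¹ * z * g * n * z⁻¹) * z := by group
      _ = g * n * z := by rw [h2]
  have hQ : IsPGroup 2 (G ⧸ N) := by
    refine (h z hz).of_surjective (π.comp (centralizer ({z} : Set G)).subtype) fun q => ?_
    obtain ⟨g, rfl⟩ := QuotientGroup.mk'_surjective N q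
    obtain ⟨n, hn, hcn⟩ := hsplit g
    refine ⟨⟨g * n, mem_centralizer_singleton_iff.2 hcn.eq.symm⟩, ?_⟩
    show π (g * n) = π g
    rw [map_mul, show π n = 1 from (QuotientGroup.eq_one_iff n).2 hn, mul_one]
  have : Fact (Nat.Prime 2) := ⟨Nat.prime_two⟩
  have := hQ.isNilpotent
  have : Group.IsSolvable N := PF14.feitThompson N hodd
  exact hns (Group.isSolvable_of_ker_le_range N.subtype π (by rw [range_subtype, QuotientGroup.ker_mk']))

/-- The structure of a non-solvable group of this kind without normal `2`-subgroups. -/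
theorem IsCIT.exists_simple {G : Type*} [Group G] [Finite G] (h : IsCIT G)
    (hns : ¬ Group.IsSolvable G) (hO : Cfsg.pCore 2 G = ⊥) :
    ∃ N : Subgroup G, N.Normal ∧ IsSimpleGroup N ∧ ¬ IsMulCommutative N ∧
      centralizer (N : Set G) = ⊥ := by
  have : Fact (Nat.Prime 2) := ⟨Nat.prime_two⟩
  have : Nontrivial G := by
    rcases subsingleton_or_nontrivial G with hs | hs
    · exact absurd (Group.isSolvable_of_comm fun a b => Subsingleton.elim _ _) hns
    · exact hs
  obtain ⟨M, hM⟩ := Fitting.exists_isMinNormal (G := G)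
  have := hM.1
  have htwo : ∀ (A : Subgroup G), A.Normal → IsPGroup 2 A → A = ⊥ := fun A hA hp =>
    eq_bot_iff.2 (hO ▸ Thompson.le_pCore hA hp)
  have hnab : ¬ IsMulCommutative M := by
    intro hab
    rcases Nat.even_or_odd (Nat.card M) with hev | hev
    · -- the involutions of `M` with the trivial element form a normal `2`-subgroup
      let A : Subgroup G :=
        { carrier := {x | x ∈ M ∧ x ^ 2 = 1}
          one_mem' := ⟨one_mem M, one_pow 2⟩
          mul_mem' := fun {a b} ha hb => ⟨mul_mem ha.1 hb.1, by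
            have hab' : Commute a b := congrArg Subtype.val
              (hab.is_comm.comm (⟨a, ha.1⟩ : M) ⟨b, hb.1⟩)
            rw [hab'.mul_pow, ha.2, hb.2, one_mul]⟩
          inv_mem' := fun {a} ha => ⟨inv_mem ha.1, by rw [inv_pow, ha.2, inv_one]⟩ }
      have hA : A.Normal := ⟨fun a ha g => ⟨hM.1.conj_mem a ha.1 g, by rw [conj_pow, ha.2]; group⟩⟩
      have hA2 : IsPGroup 2 A := fun a => ⟨1, Subtype.ext (by simpa using a.2.2)⟩
      obtain ⟨u, hu⟩ := exists_prime_orderOf_dvd_card' (G := M) 2 (even_iff_two_dvd.1 hev)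
      have huA : (u : G) ∈ A := ⟨u.2, by rw [← hu, ← orderOf_coe, pow_orderOf_eq_one]⟩
      rw [htwo A hA hA2, mem_bot] at huA
      rw [← orderOf_coe, huA, orderOf_one] at hu
      omega
    · obtain ⟨V, hV⟩ := h.exists_klein hns
      have hVc : IsMulCommutative V := ⟨⟨fun a b =>
        (Commute.of_orderOf_dvd_two (G := V) (fun g => by
          rw [← hV.exponent_two]; exact Monoid.order_dvd_exponent g) a b).eq⟩⟩
      have hcyc : ¬ IsCyclic V := hV.not_isCyclic
      have hV4 : Nat.card V = 4 := hV.card_four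
      have hVp : IsPGroup 2 V := IsPGroup.of_card (n := 2) (by rw [hV4]; rfl)
      have h1 := Coprime.iSup_centralizer_eq V M hcyc
        (by rw [normalizer_eq_top]; exact le_top)
        (by rw [hV4]; exact (Nat.coprime_two_left.2 hev).pow_left 2)
      refine hM.2.1 (h1 ▸ eq_bot_iff.2 (iSup₂_le fun a ha => ?_))
      intro x hx
      obtain ⟨hxM, hxC⟩ := mem_inf.1 hx
      rw [mem_bot]
      exact h.eq_one_of_mem_twoGroup hVp ha.1 ha.2 (mem_centralizer_singleton_iff.1 hxC).symm
        (hev.of_dvd_nat (Subgroup.orderOf_dvd_natCard M hxM))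
  obtain ⟨T, hT⟩ := RecogB.exists_isFactor (N := M) hM.2.1 hM.2.2 hnab
  have := hT.simple
  have hTev : 2 ∣ Nat.card T := by
    by_contra hc
    exact hT.nonab ⟨⟨IsSimpleGroup.comm_iff_isSolvable.2
      (PF14.feitThompson T (Nat.odd_iff.2 (Nat.two_dvd_ne_zero.1 hc)))⟩⟩
  obtain ⟨u, hu⟩ := exists_prime_orderOf_dvd_card' (G := T) 2 hTev
  have hu' : orderOf (u : G) = 2 := (orderOf_coe u).trans hu
  have hTM : T = M := by
    conv_rhs => rw [← hT.generate hM.2.2]
    refine le_antisymm ?_ (iSup_le fun g => ?_)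
    · refine le_trans (fun x hx => ?_) (le_iSup (fun g => RecogB.cj g T) 1)
      rw [RecogB.mem_cj]; simpa using hx
    · rcases hT.eq_or_commute (hT.cj g) with h1 | h1
      · exact h1.le
      · exfalso
        obtain ⟨x, hx, hxp, hx2⟩ := (hT.cj g).exists_orderOf_ne 2
        have hxodd : Odd (orderOf x) := hxp.odd_of_ne_two hx2
        have := h.eq_one hu' (h1 u u.2 x hx) hxodd
        rw [this, orderOf_one] at hxp
        exact Nat.not_prime_one hxp
  subst hTM
  refine ⟨T, inferInstance, hT.simple, hT.nonab, ?_⟩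
  set C := centralizer (T : Set G) with hC
  have : C.Normal := inferInstance
  refine htwo C inferInstance ((h u hu').to_le fun c hc => ?_)
  exact mem_centralizer_singleton_iff.2 (mem_centralizer_iff.1 hc u u.2).symm

end Cfsg.Agent.PGraphCIT
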